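import Cfsg.Agent.Lib.HeldTri.Generated.Codes.Defs

/-!
Kernel checks for the possible sets of classes fused to the central involution.
-/

set_option autoImplicit false
set_option maxRecDepth 100000
set_option Elab.async false

namespace CfsgLib.HeldTri.Gen

theorem pat_sl : patternOk [0, 1, 3, 6] = true := by decide +kernel
theorem pat_m24a : patternOk [0, 1, 3, 4, 6] = true := by decide +kernel
theorem pat_m24b : patternOk [0, 1, 3, 5, 6] = true := by decide +kernel
theorem pat_he : patternOk [0, 1, 3, 4, 5, 6] = true := by decide +kernel

end CfsgLib.HeldTri.Gen
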