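import Cfsg.Agent.Lib.HeldTri.Generated.Codes.Defs

/-!
Kernel checks on the centralisers of the representatives.
-/

set_option autoImplicit false
set_option maxRecDepth 100000
set_option Elab.async false

namespace CfsgLib.HeldTri.Gen

/-- The centraliser of the representative of class `k` is complete, and its pairs are listed. -/
def centOk (k r : ℕ) (L B : List ℕ) (W : List (ℕ × List (ℕ × ℕ))) : Bool :=
  (reps.getD k 0 == r) && L.all (fun g => com g r) && incr L &&
    (L.length * invTab.countP (fun e => e.2.1 == k) == 21504) && invTab.all (bigOk r L.length B W)

theorem cent2_ok : centOk 2 10 cent2 big2 small2 = true := by decide +kernel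
theorem cent4_ok : centOk 4 385 cent4 big4 small4 = true := by decide +kernel
theorem cent5_ok : centOk 5 392 cent5 big5 small5 = true := by decide +kernel
theorem cent6_ok : centOk 6 393 cent6 big6 small6 = true := by decide +kernel
theorem cent7_ok : centOk 7 423 cent7 big7 small7 = true := by decide +kernel
theorem v_ok : (cnt cent2 21110 == 256) = true := by decide +kernel
theorem tab_incr : incr (invTab.map Prod.fst) = true := by decide +kernel

end CfsgLib.HeldTri.Gen
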