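import Cfsg.Agent.Lib.HeldTri.Generated.Codes.Defs

/-!
The masks of the classes contain only listed codes.
-/

set_option autoImplicit false
set_option maxRecDepth 100000
set_option Elab.async false

namespace CfsgLib.HeldTri.Gen

/-- The mask of a list of codes. -/
def maskOf (L : List ℕ) : ℕ := L.foldl (fun m c => m ||| (1 <<< c)) 0

theorem masks_ok : ((List.range 8).all fun j =>
    masks.getD j 0 == maskOf ((invTab.filter fun e => e.2.1 == j).map Prod.fst)) = true := by decide +kernel

theorem testBit_maskOf : ∀ (L : List ℕ) (m c : ℕ),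
    (L.foldl (fun m c => m ||| (1 <<< c)) m).testBit c = true → m.testBit c = true ∨ c ∈ L
  | [], _, _, h => .inl h
  | d :: L, m, c, h => by
    rcases testBit_maskOf L (m ||| (1 <<< d)) c h with h | h
    · rw [Nat.testBit_or, Bool.or_eq_true] at h
      rcases h with h | h
      · exact .inl h
      · rw [Nat.one_shiftLeft, Nat.testBit_two_pow, decide_eq_true_eq] at h
        exact .inr (h ▸ List.mem_cons_self)
    · exact .inr (List.mem_cons_of_mem _ h)

theorem inClass_mem {k c : ℕ} (hk : k < 8) (h : inClass k c = true) : ∃ g, (c, k, g) ∈ invTab := by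
  have e := eq_of_beq (List.all_eq_true.1 masks_ok k (List.mem_range.2 hk))
  rw [inClass, e, maskOf] at h
  rcases testBit_maskOf _ 0 c h with h | h
  · simp at h
  obtain ⟨⟨c', k', g⟩, hm, rfl⟩ := List.mem_map.1 h
  obtain ⟨hm, hk'⟩ := List.mem_filter.1 hm
  exact ⟨g, by rw [← eq_of_beq hk']; exact hm⟩

end CfsgLib.HeldTri.Gen
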