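import Cfsg.Agent.Lib.HeldTri.Generated.Codes.Defs

/-!
Kernel checks on the tables which do not depend on fusion.
-/

set_option autoImplicit false
set_option maxRecDepth 100000
set_option Elab.async false

namespace CfsgLib.HeldTri.Gen

theorem scan0 : ((List.range' 0 5376).all scanOk) = true := by decide +kernel
theorem scan1 : ((List.range' 5376 5376).all scanOk) = true := by decide +kernel
theorem scan2 : ((List.range' 10752 5376).all scanOk) = true := by decide +kernel
theorem scan3 : ((List.range' 16128 5376).all scanOk) = true := by decide +kernel

theorem entries : (invTab.all entryOk) = true := by decide +kernel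

end CfsgLib.HeldTri.Gen
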