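/-!
Generated data: for each class other than the trivial one, a conjugate whose product with it has odd order modulo
the extraspecial subgroup (class, conjugating class, conjugate, order).
-/

set_option autoImplicit false
set_option maxRecDepth 100000

namespace CfsgLib.HeldTri.Gen

/-- Class, conjugating class, conjugate, order. -/
def coreTab : List (Nat × Nat × Nat × Nat) := [
  (1, 0, 128, 7), (2, 0, 256, 3), (3, 2, 1408, 3), (4, 0, 512, 7), (5, 0, 640, 3), (6, 0, 768, 3),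
  (7, 0, 896, 3), (8, 0, 1024, 3), (9, 1, 14656, 3), (10, 0, 1280, 3), (11, 2, 1152, 3), (12, 0, 1536, 7),
  (13, 0, 1664, 7), (14, 0, 1792, 3), (15, 0, 1920, 3), (16, 0, 2048, 7), (17, 0, 2176, 7), (18, 1, 19328, 7),
  (19, 0, 2432, 3), (20, 0, 2560, 3), (21, 3, 3456, 3), (22, 0, 2816, 3), (23, 0, 2944, 7), (24, 0, 3072, 7),
  (25, 0, 3200, 7), (26, 0, 3328, 7), (27, 1, 2304, 7), (28, 0, 3584, 7), (29, 1, 20416, 3), (30, 1, 3712, 3),
  (31, 0, 3968, 3), (32, 0, 4096, 3), (33, 0, 4224, 3), (34, 0, 4352, 3), (35, 0, 4480, 3), (36, 2, 7936, 7),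
  (37, 1, 3840, 3), (38, 0, 4864, 3), (39, 0, 4992, 3), (40, 0, 5120, 3), (41, 0, 5248, 3), (42, 0, 5376, 3),
  (43, 0, 5504, 3), (44, 0, 5632, 3), (45, 0, 5760, 7), (46, 3, 2304, 3), (47, 1, 9216, 3), (48, 0, 6144, 3),
  (49, 1, 4736, 3), (50, 0, 6400, 7), (51, 0, 6528, 3), (52, 0, 6656, 3), (53, 0, 6784, 3), (54, 0, 6912, 3),
  (55, 0, 7040, 3), (56, 0, 7168, 3), (57, 0, 7296, 3), (58, 0, 7424, 7), (59, 1, 17792, 3), (60, 1, 7552, 3),
  (61, 0, 7808, 7), (62, 1, 7680, 3), (63, 1, 20096, 7), (64, 4, 14528, 3), (65, 0, 8320, 7), (66, 3, 12160, 3),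
  (67, 0, 8576, 3), (68, 0, 8704, 3), (69, 0, 8832, 3), (70, 0, 8960, 7), (71, 2, 19200, 7), (72, 1, 7936, 3),
  (73, 1, 19520, 3), (74, 1, 8064, 7), (75, 3, 10688, 3), (76, 0, 9728, 7), (77, 0, 9856, 7), (78, 3, 21184, 7),
  (79, 0, 10112, 7), (80, 0, 10240, 7), (81, 3, 18752, 7), (82, 0, 10496, 7), (83, 1, 12160, 7), (84, 0, 10752, 3),
  (85, 0, 10880, 3), (86, 0, 11008, 7), (87, 0, 11136, 3), (88, 0, 11264, 3), (89, 0, 11392, 7), (90, 0, 11520, 7),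
  (91, 0, 11648, 3), (92, 0, 11776, 7), (93, 1, 9344, 3), (94, 0, 12032, 3), (95, 1, 9472, 7), (96, 4, 8192, 3),
  (97, 0, 12416, 7), (98, 0, 12544, 7), (99, 0, 12672, 7), (100, 0, 12800, 7), (101, 2, 15872, 3), (102, 0, 13056, 3),
  (103, 0, 13184, 7), (104, 0, 13312, 7), (105, 0, 13440, 7), (106, 3, 19712, 3), (107, 0, 13696, 7), (108, 0, 13824, 7),
  (109, 0, 13952, 7), (110, 0, 14080, 7), (111, 0, 14208, 7), (112, 2, 20032, 3), (113, 4, 19840, 3), (114, 1, 18816, 3),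
  (115, 1, 10624, 7), (116, 0, 14848, 3), (117, 0, 14976, 3), (118, 0, 15104, 7), (119, 0, 15232, 7), (120, 0, 15360, 3),
  (121, 0, 15488, 7), (122, 0, 15616, 7), (123, 7, 9408, 3), (124, 1, 1152, 3), (125, 0, 16000, 7), (126, 0, 16128, 3),
  (127, 0, 16256, 7), (128, 5, 15872, 3), (129, 2, 20416, 3), (130, 2, 20864, 3), (131, 1, 14720, 7), (132, 0, 16896, 3),
  (133, 0, 17024, 7), (134, 0, 17152, 3), (135, 0, 17280, 7), (136, 1, 6016, 3), (137, 0, 17536, 7), (138, 0, 17664, 3),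
  (139, 1, 17408, 3), (140, 0, 17920, 7), (141, 0, 18048, 3), (142, 0, 18176, 3), (143, 1, 21120, 7), (144, 0, 18432, 3),
  (145, 3, 8064, 7), (146, 1, 18304, 7), (147, 1, 11904, 3), (148, 0, 18944, 3), (149, 2, 7744, 3), (150, 1, 19968, 3),
  (151, 1, 18688, 7), (152, 1, 15872, 3), (153, 3, 16768, 7), (154, 3, 13568, 3), (155, 2, 12928, 3), (156, 1, 6336, 3),
  (157, 1, 16768, 7), (158, 2, 9280, 3), (159, 1, 19200, 3), (160, 0, 20480, 3), (161, 1, 3456, 7), (162, 0, 20736, 3),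
  (163, 2, 14656, 3), (164, 4, 12352, 3), (165, 1, 20608, 7), (166, 0, 21248, 3), (167, 0, 21376, 3)]

end CfsgLib.HeldTri.Gen
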