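import Cfsg.Agent.Lib.HeType.Cert.Fast
import Cfsg.Agent.Lib.HeldTri.Generated.Codes.Tables

/-!
The computable conditions on the codes of the centraliser.
-/

set_option autoImplicit false

namespace CfsgLib.HeldTri.Gen

open CfsgLib.HeType.Cert

/-- Do two codes commute? -/
def com (c d : ℕ) : Bool := fMul c d == fMul d c

/-- The class of a code of an involution contains it. -/
def inClass (k c : ℕ) : Bool := (masks.getD k 0).testBit c

/-- Is the code in one of the classes of `S`? -/
def isT (S : List ℕ) (c : ℕ) : Bool := S.any fun k => inClass k c

/-- Every involution is listed. -/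
def scanOk (c : ℕ) : Bool := !(fMul c c == 0) || c == 0 || (invTab.map Prod.fst).contains c

/-- An entry of the table of involutions is correct. -/
def entryOk : ℕ × ℕ × ℕ → Bool
  | (c, k, g) => Nat.blt c 21504 && Nat.blt g 21504 && Nat.blt k 8 && (fMul g (reps.getD k 0) == fMul c g) &&
      !(c == 0) && (fMul c c == 0) && (List.range 8).all fun j => inClass j c == (j == k)

/-- A list is increasing and below the order. -/
def incr : List ℕ → Bool
  | [] => true
  | [c] => Nat.blt c 21504
  | c :: d :: l => Nat.blt c d && incr (d :: l)

/-- The number of elements of a list commuting with a code. -/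
def cnt (L : List ℕ) (c : ℕ) : ℕ := L.countP fun g => com g c

/-- The conjugates of `c` by elements commuting with `r` show that few elements of the centraliser of `r`
commute with `c`. -/
def fewOk (r n c : ℕ) (w : List (ℕ × ℕ)) : Bool :=
  incr (w.map Prod.fst) && Nat.blt n (128 * w.length) &&
    w.all fun p => Nat.blt p.2 21504 && com p.2 r && (fMul p.2 c == fMul p.1 p.2)

/-- The large common centralisers are listed, and the others are small. -/
def bigOk (r n : ℕ) (B : List ℕ) (W : List (ℕ × List (ℕ × ℕ))) : ℕ × ℕ × ℕ → Bool
  | (c, _, _) => !(com c r) || c == r || B.contains c || W.any fun e => e.1 == c && fewOk r n c e.2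

/-- The condition on a pair with large common centraliser. -/
def pairOk (S : List ℕ) (r : ℕ) (L : List ℕ) (c : ℕ) : Bool :=
  isT S c || isT S (fMul r c) || (Nat.blt (cnt L c) 512 && L.all fun q =>
    !(com q c) || !(isT S q) || !(isT S (fMul q c)) || isT S (fMul q r) || isT S (fMul (fMul q r) c))

/-- The condition on the possible central involutions of two conjugates. -/
def childOk (S : List ℕ) : ℕ × ℕ × ℕ → Bool
  | (z, _, _) => !(com z 10) || z == 10 || z == 64 || isT S z || isT S (fMul z 10) || !(isT S (fMul 64 z)) ||
      (isT S (fMul (fMul 64 z) 10) && (z == 21110 || z == 21116)) ||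
      (!(isT S (fMul (fMul 64 z) 10)) && cnt cent2 z == 64)

/-- Membership of the four group. -/
def inV (c : ℕ) : Bool := c == 0 || c == 10 || c == 21110 || c == 21116

/-- The condition on the common centraliser of the four group. -/
def coverOk (S : List ℕ) (r : ℕ) : Bool :=
  !(com r 21110) || !(inV (fMul r r)) || inV r || [0, 10, 21110, 21116].any fun x => isT S (fMul r x)

/-- The facts on the fixed elements. -/
def basicOk (S : List ℕ) : Bool :=
  S.contains 0 && S.contains 1 && S.contains 3 && !(isT S 10) && !(isT S (fMul 64 10)) && isT S (fMul 2 10) &&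
    isT S 2 && !(isT S 21110) && !(isT S 21116) && isT S (fMul 64 21110) && isT S (fMul (fMul 64 21110) 10)

/-- All conditions depending on the classes fused to the central involution. -/
def patternOk (S : List ℕ) : Bool :=
  basicOk S && invTab.all (childOk S) && cent2.all (coverOk S) &&
    (S.contains 2 || big2.all (pairOk S 10 cent2)) && (S.contains 4 || big4.all (pairOk S 385 cent4)) &&
    (S.contains 5 || big5.all (pairOk S 392 cent5)) && (S.contains 6 || big6.all (pairOk S 393 cent6)) &&
    (S.contains 7 || big7.all (pairOk S 423 cent7))

end CfsgLib.HeldTri.Gen
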